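import Mathlib
import Groth.Agent.Lib.Helper5.PullbackRange

/-!
# Universally open morphisms via affine spaces
-/

set_option autoImplicit false
universe u

namespace Groth.Agent.H5.UO

open AlgebraicGeometry CategoryTheory CategoryTheory.Limits TensorProduct

section PB
variable {X S X' S' : Scheme.{u}} {f : X ⟶ S} {g : S' ⟶ S} {g' : X' ⟶ X} {f' : X' ⟶ S'}

/-- In a pullback square, image of a preimage is preimage of the image. -/
lemma image_preimage_eq (hsq : IsPullback g' f' f g) (U : Set X) :
    f'.base '' (g'.base ⁻¹' U) = g.base ⁻¹' (f.base '' U) := by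
  ext s'
  constructor
  · rintro ⟨x', hx', rfl⟩
    refine ⟨g'.base x', hx', ?_⟩
    rw [← Scheme.Hom.comp_apply, hsq.w, Scheme.Hom.comp_apply]
  · rintro ⟨x, hx, hxs⟩
    obtain ⟨x', h1, h2⟩ := IsPullback.exists_preimage hsq x s' hxs
    exact ⟨x', by simpa [h1] using hx, h2⟩

end PB

/-- Elements of a pushout of commutative rings are sums of products. -/
lemma exists_fin_of_isPushout {R A B X : CommRingCat.{u}} {f : R ⟶ A} {g : R ⟶ B} {a : A ⟶ X}
    {b : B ⟶ X} (H : IsPushout f g a b) (x : X) :
    ∃ (m : ℕ) (r : Fin m → A) (c : Fin m → B), x = ∑ i, a.hom (r i) * b.hom (c i) := by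
  algebraize [f.hom, g.hom]
  have H' : IsPushout f g (CommRingCat.ofHom (S := A ⊗[R] B) <| Algebra.TensorProduct.includeLeftRingHom)
      (CommRingCat.ofHom (S := A ⊗[R] B) <| Algebra.TensorProduct.includeRight.toRingHom) :=
    CommRingCat.isPushout_tensorProduct R A B
  let e := H'.isoIsPushout _ _ H
  have h1 : ∀ r : A, e.hom.hom (r ⊗ₜ 1) = a.hom r := fun r =>
    congr($(H'.inl_isoIsPushout_hom _ _ H).hom r)
  have h2 : ∀ s : B, e.hom.hom (1 ⊗ₜ s) = b.hom s := fun s =>
    congr($(H'.inr_isoIsPushout_hom _ _ H).hom s)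
  have hx : x = e.hom.hom (e.inv.hom x) := by
    have := congr($(e.inv_hom_id).hom x)
    simpa using this.symm
  rw [hx]
  generalize e.inv.hom x = t
  induction t using TensorProduct.induction_on with
  | zero => exact ⟨0, Fin.elim0, Fin.elim0, by simp⟩
  | tmul r s =>
    refine ⟨1, fun _ => r, fun _ => s, ?_⟩
    have : r ⊗ₜ[R] s = (r ⊗ₜ 1) * (1 ⊗ₜ s) := by simp
    rw [this, map_mul, h1, h2]; simp
  | add t₁ t₂ h₁ h₂ =>
    obtain ⟨m₁, r₁, c₁, e₁⟩ := h₁
    obtain ⟨m₂, r₂, c₂, e₂⟩ := h₂
    refine ⟨m₁ + m₂, Fin.append r₁ r₂, Fin.append c₁ c₂, ?_⟩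
    rw [map_add, e₁, e₂, Fin.sum_univ_add]
    simp

section core

variable {X S T P : Scheme.{u}} [IsAffine X] [IsAffine S] [IsAffine T]
  {f : X ⟶ S} {g : T ⟶ S} {g' : P ⟶ X} {f' : P ⟶ T}

open AffineSpace in
lemma isOpen_image_basicOpen (hsq : IsPullback g' f' f g)
    {n : Type u} [Fintype n] (r : n → Γ(X, ⊤)) (c : n → Γ(T, ⊤))
    (hopen : IsOpen ((AffineSpace.map n f).base '' ((𝔸(n; X)).basicOpen
      (∑ i, (𝔸(n; X) ↘ X).appTop (r i) * AffineSpace.coord X i) : Set 𝔸(n; X)))) :
    IsOpen (f'.base '' (P.basicOpen (∑ i, g'.appTop (r i) * f'.appTop (c i)) : Set P)) := by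
  let b : T ⟶ 𝔸(n; S) := homOfVector g c
  let b' : P ⟶ 𝔸(n; X) := homOfVector g' (fun i => f'.appTop (c i))
  have comm : b' ≫ AffineSpace.map n f = f' ≫ b := by
    apply AffineSpace.hom_ext
    · simp [b, b', hsq.w]
    · intro i
      simp [b, b']
  have pb : IsPullback b' f' (AffineSpace.map n f) b := by
    refine IsPullback.of_right ?_ comm (isPullback_map f).flip
    simpa [b, b'] using hsq
  have hs : b'.appTop (∑ i, (𝔸(n; X) ↘ X).appTop (r i) * AffineSpace.coord X i) =
      ∑ i, g'.appTop (r i) * f'.appTop (c i) := by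
    rw [map_sum]
    refine Finset.sum_congr rfl fun i _ => ?_
    rw [map_mul, homOfVector_appTop_coord]
    congr 1
    rw [← CommRingCat.comp_apply, ← Scheme.Hom.comp_appTop, homOfVector_over]
  rw [← hs, ← Scheme.preimage_basicOpen_top]
  have := image_preimage_eq pb ((𝔸(n; X)).basicOpen
      (∑ i, (𝔸(n; X) ↘ X).appTop (r i) * AffineSpace.coord X i) : Set 𝔸(n; X))
  erw [this]
  exact hopen.preimage b.continuous

/-- The hypothesis: all positive-dimensional affine-space maps are open. -/
def OpenOnAffineSpaces {X S : Scheme.{u}} (f : X ⟶ S) : Prop :=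
  ∀ n : ℕ, IsOpenMap (AffineSpace.map (ULift.{u} (Fin (n + 1))) f).base

lemma isOpenMap_of_isPullback_of_isAffine (hsq : IsPullback g' f' f g)
    (H : OpenOnAffineSpaces f) : IsOpenMap f'.base := by
  have : IsAffine P := IsAffine.of_isPullback hsq
  rw [(isBasis_basicOpen P).isOpenMap_iff]
  rintro _ ⟨_, ⟨s, rfl⟩, rfl⟩
  obtain ⟨m, r, c, hs⟩ := exists_fin_of_isPushout (isPushout_appTop_of_isPullback hsq) s
  let r' : ULift.{u} (Fin (m + 1)) → Γ(X, ⊤) := fun i => Fin.snoc (α := fun _ => Γ(X, ⊤)) r 0 i.down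
  let c' : ULift.{u} (Fin (m + 1)) → Γ(T, ⊤) := fun i => Fin.snoc (α := fun _ => Γ(T, ⊤)) c 0 i.down
  have hs' : s = ∑ i, g'.appTop (r' i) * f'.appTop (c' i) := by
    rw [hs, ← Equiv.sum_comp Equiv.ulift.symm, Fin.sum_univ_castSucc]
    simp [r', c']
  rw [hs']
  exact isOpen_image_basicOpen hsq r' c' (H m _ (TopologicalSpace.Opens.isOpen _))

end core

section transfer

variable {X S : Scheme.{u}} {f : X ⟶ S}

lemma OpenOnAffineSpaces.comp_left (H : OpenOnAffineSpaces f) {U : Scheme.{u}} (j : U ⟶ X)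
    [IsOpenImmersion j] : OpenOnAffineSpaces (j ≫ f) := by
  intro n
  have : IsOpenImmersion (AffineSpace.map (ULift.{u} (Fin (n + 1))) j) :=
    MorphismProperty.of_isPullback (P := @IsOpenImmersion) (AffineSpace.isPullback_map j).flip
      inferInstance
  rw [AffineSpace.map_comp]
  exact (H n).comp (AffineSpace.map (ULift.{u} (Fin (n + 1))) j).isOpenEmbedding.isOpenMap

lemma OpenOnAffineSpaces.of_isPullback (H : OpenOnAffineSpaces f) {X' S' : Scheme.{u}}
    {i' : X' ⟶ X} {f' : X' ⟶ S'} {i : S' ⟶ S} (hsq : IsPullback i' f' f i) [IsOpenImmersion i] :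
    OpenOnAffineSpaces f' := by
  have : IsOpenImmersion i' := MorphismProperty.of_isPullback (P := @IsOpenImmersion) hsq.flip
    inferInstance
  intro n
  have hi : IsOpenImmersion (AffineSpace.map (ULift.{u} (Fin (n + 1))) i) :=
    MorphismProperty.of_isPullback (P := @IsOpenImmersion) (AffineSpace.isPullback_map i).flip
      inferInstance
  have h1 := (H.comp_left i') n
  rw [hsq.w, AffineSpace.map_comp] at h1
  intro W hW
  have h2 := h1 W hW
  have : (AffineSpace.map (ULift.{u} (Fin (n + 1))) f').base '' W =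
      (AffineSpace.map (ULift.{u} (Fin (n + 1))) i).base ⁻¹'
        ((AffineSpace.map (ULift.{u} (Fin (n + 1))) f' ≫
          AffineSpace.map (ULift.{u} (Fin (n + 1))) i).base '' W) := by
    rw [Scheme.Hom.comp_base, TopCat.coe_comp, Set.image_comp,
      Set.preimage_image_eq _ (AffineSpace.map (ULift.{u} (Fin (n + 1))) i).isOpenEmbedding.injective]
  rw [this]
  exact h2.preimage (AffineSpace.map (ULift.{u} (Fin (n + 1))) i).continuous

end transfer

section main

variable {X S : Scheme.{u}} {f : X ⟶ S}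

/-- To check universal openness it suffices to check openness of base changes to affine
schemes. -/
lemma universallyOpen_of_forall_isAffine
    (H : ∀ {T P : Scheme.{u}} [IsAffine T] {g : T ⟶ S} {g' : P ⟶ X} {f' : P ⟶ T},
      IsPullback g' f' f g → IsOpenMap f'.base) :
    UniversallyOpen f := by
  rw [UniversallyOpen.eq]
  apply MorphismProperty.universally_mk'
  intro T g _
  change IsOpenMap (pullback.fst g f).base
  have hU : TopologicalSpace.IsOpenCover (fun i : T.affineOpens => (i : T.Opens)) :=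
    iSup_affineOpens_eq_top T
  rw [hU.isOpenMap_iff_restrictPreimage]
  intro U
  have hsq : IsPullback (((pullback.fst g f) ⁻¹ᵁ U.1).ι ≫ pullback.snd g f) ((pullback.fst g f) ∣_ U.1) f
      (U.1.ι ≫ g) :=
    ((isPullback_morphismRestrict (pullback.fst g f) U.1).paste_vert
      (IsPullback.of_hasPullback g f)).flip
  have : IsAffine U.1.toScheme := U.2
  have := H hsq
  rwa [morphismRestrict_base] at this

lemma universallyOpen_of_isAffine [IsAffine X] [IsAffine S] (H : OpenOnAffineSpaces f) :
    UniversallyOpen f :=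
  universallyOpen_of_forall_isAffine fun hsq => isOpenMap_of_isPullback_of_isAffine hsq H

theorem universallyOpen_of_openOnAffineSpaces (H : OpenOnAffineSpaces f) : UniversallyOpen f := by
  rw [IsZariskiLocalAtTarget.iff_of_openCover (P := @UniversallyOpen) S.affineCover]
  intro i
  rw [IsZariskiLocalAtSource.iff_of_openCover (P := @UniversallyOpen) (Scheme.affineCover _)]
  intro j
  have H1 : OpenOnAffineSpaces (S.affineCover.pullbackHom f i) :=
    H.of_isPullback (IsPullback.of_hasPullback f (S.affineCover.f i))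
  exact universallyOpen_of_isAffine (H1.comp_left _)

theorem isOpenMap_affineSpace_map_of_universallyOpen [UniversallyOpen f] (n : Type u) :
    IsOpenMap (AffineSpace.map n f).base := by
  have : UniversallyOpen (AffineSpace.map n f) :=
    MorphismProperty.of_isPullback (P := @UniversallyOpen) (AffineSpace.isPullback_map f).flip
      inferInstance
  exact (AffineSpace.map n f).isOpenMap

theorem universallyOpen_iff_affineSpace :
    UniversallyOpen f ↔ ∀ n : ℕ, IsOpenMap ⇑(AffineSpace.map (ULift.{u} (Fin n)) f) :=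
  ⟨fun _ n => isOpenMap_affineSpace_map_of_universallyOpen _,
    fun h => universallyOpen_of_openOnAffineSpaces fun n => h (n + 1)⟩

/-- Variant with the fibre product `X ×_S 𝔸ⁿ_S`. -/
theorem universallyOpen_of_pullback_snd
    (h : ∀ n : ℕ, 0 < n →
      IsOpenMap ⇑(Limits.pullback.snd f (AffineSpace (ULift.{u} (Fin n)) S ↘ S))) :
    UniversallyOpen f := by
  refine universallyOpen_of_openOnAffineSpaces fun n => ?_
  have hsq := (AffineSpace.isPullback_map (n := ULift.{u} (Fin (n + 1))) f).flip
  have e : hsq.isoPullback.hom ≫ pullback.snd _ _ = AffineSpace.map _ f :=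
    hsq.isoPullback_hom_snd
  rw [← e]
  exact (h (n + 1) n.succ_pos).comp hsq.isoPullback.hom.homeomorph.isOpenMap

end main

end Groth.Agent.H5.UO
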