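import Mathlib

/-!
# Universally open + quasi-finite descends along limits, part A (helper5)

Ring-level generation lemma for pushouts and the "basis of linear combinations" claim.
-/

set_option autoImplicit false
universe u
open CategoryTheory CategoryTheory.Limits AlgebraicGeometry

namespace Groth.Agent.H5.UO

/-- In a pushout-like situation (`X` generated as a ring by the images of `A` and `B`), module
generators of `A` over `R` generate `X` over `B`. -/
lemma exists_sum_of_closure {R A B X : Type*} [CommRing R] [CommRing A] [CommRing B] [CommRing X]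
    (f : R →+* A) (g : R →+* B) (a : A →+* X) (b : B →+* X) (hw : a.comp f = b.comp g)
    (hcl : Subring.closure (Set.range a ∪ Set.range b) = ⊤) {n : Type*} [Fintype n] (e : n → A)
    (he : ∀ x : A, ∃ r : n → R, x = ∑ i, f (r i) * e i) (x : X) :
    ∃ β : n → B, x = ∑ i, b (β i) * a (e i) := by
  letI := b.toAlgebra
  let M : Submodule B X := Submodule.span B (Set.range (fun i => a (e i)))
  have hsm : ∀ (c : B) (y : X), c • y = b c * y := fun c y => by
    rw [Algebra.smul_def]; rfl
  have hA : ∀ s : A, a s ∈ M := by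
    intro s
    obtain ⟨r, rfl⟩ := he s
    rw [map_sum]
    refine Submodule.sum_mem _ fun i _ => ?_
    rw [map_mul]
    have h1 : a (f (r i)) = b (g (r i)) := congr($hw (r i))
    rw [h1, ← hsm]
    exact Submodule.smul_mem _ _ (Submodule.subset_span ⟨i, rfl⟩)
  have hmulA : ∀ (s : A) (y : X), y ∈ M → a s * y ∈ M := by
    intro s y hy
    induction hy using Submodule.span_induction with
    | mem y hy =>
      obtain ⟨j, rfl⟩ := hy
      change a s * a (e j) ∈ M
      rw [← map_mul]; exact hA _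
    | zero => simp
    | add y z _ _ hy hz => rw [mul_add]; exact add_mem hy hz
    | smul c y _ hy => rw [mul_smul_comm]; exact Submodule.smul_mem _ _ hy
  have hmul : ∀ x y, x ∈ M → y ∈ M → x * y ∈ M := by
    intro x y hx hy
    induction hx using Submodule.span_induction with
    | mem x hx => obtain ⟨i, rfl⟩ := hx; exact hmulA _ _ hy
    | zero => simp
    | add x z _ _ hx hz => rw [add_mul]; exact add_mem hx hz
    | smul c x _ hx => rw [smul_mul_assoc]; exact Submodule.smul_mem _ _ hx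
  have htop : x ∈ M := by
    have hx : x ∈ Subring.closure (Set.range a ∪ Set.range b) := by rw [hcl]; trivial
    induction hx using Subring.closure_induction with
    | mem x hx =>
      rcases hx with ⟨s, rfl⟩ | ⟨c, rfl⟩
      · exact hA s
      · have : b c = c • a 1 := by rw [hsm, map_one, mul_one]
        rw [this]; exact Submodule.smul_mem _ _ (hA 1)
    | zero => exact zero_mem _
    | one => rw [← map_one a]; exact hA 1
    | add x y _ _ hx hy => exact add_mem hx hy
    | neg x _ hx => exact neg_mem hx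
    | mul x y _ _ hx hy => exact hmul _ _ hx hy
  obtain ⟨β, hβ⟩ := (Submodule.mem_span_range_iff_exists_fun B).mp htop
  refine ⟨β, ?_⟩
  rw [← hβ]
  exact Finset.sum_congr rfl fun i _ => hsm _ _

/-- Module generators base change along a pullback square of affine schemes. -/
lemma exists_sum_appTop {T₀ Y₁ Y' T' : Scheme.{u}} [IsAffine T₀] [IsAffine Y₁] [IsAffine Y']
    {π₀ : T₀ ⟶ Y₁} {g : Y' ⟶ Y₁} {fstT : T' ⟶ T₀} {sndT : T' ⟶ Y'}
    (hsq : IsPullback fstT sndT π₀ g) {n : Type u} [Fintype n] (e : n → Γ(T₀, ⊤))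
    (he : ∀ x : Γ(T₀, ⊤), ∃ r : n → Γ(Y₁, ⊤), x = ∑ i, π₀.appTop (r i) * e i)
    (x : Γ(T', ⊤)) :
    ∃ β : n → Γ(Y', ⊤), x = ∑ i, sndT.appTop (β i) * fstT.appTop (e i) := by
  have hpo := isPushout_appTop_of_isPullback hsq
  have hcl := CommRingCat.closure_range_union_range_eq_top_of_isPushout hpo
  refine exists_sum_of_closure π₀.appTop.hom g.appTop.hom fstT.appTop.hom sndT.appTop.hom ?_ hcl e
    he x
  have := hpo.w
  rw [← CommRingCat.hom_comp, ← CommRingCat.hom_comp, this]


/-- The basis claim: for a quasi-finite `h₀ = j₀ ≫ π₀` (open immersion into a finite scheme `T₀`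
with module generators `e`), on any base change `Z'` to an affine `Y'` the basic opens of
`Y'`-linear combinations of the `e i` form a basis of the topology. -/
lemma exists_basicOpen_sum {Y₁ Z₀ T₀ : Scheme.{u}} (h₀ : Z₀ ⟶ Y₁) (j₀ : Z₀ ⟶ T₀) (π₀ : T₀ ⟶ Y₁)
    [IsOpenImmersion j₀] [IsAffine Y₁] [IsAffine T₀] (fac : j₀ ≫ π₀ = h₀)
    {n : Type u} [Fintype n] (e : n → Γ(T₀, ⊤))
    (he : ∀ x : Γ(T₀, ⊤), ∃ r : n → Γ(Y₁, ⊤), x = ∑ i, π₀.appTop (r i) * e i)
    {Y' Z' : Scheme.{u}} [IsAffine Y'] (g : Y' ⟶ Y₁) (fstZ : Z' ⟶ Z₀) (sndZ : Z' ⟶ Y')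
    (hsq : IsPullback fstZ sndZ h₀ g) (V : Z'.Opens) (z : Z') (hz : z ∈ V) :
    ∃ a' : n → Γ(Y', ⊤),
      z ∈ Z'.basicOpen (∑ i, sndZ.appTop (a' i) * fstZ.appTop (j₀.appTop (e i))) ∧
      Z'.basicOpen (∑ i, sndZ.appTop (a' i) * fstZ.appTop (j₀.appTop (e i))) ≤ V := by
  let j' : Z' ⟶ pullback π₀ g := pullback.lift (fstZ ≫ j₀) sndZ (by
    rw [Category.assoc, fac, hsq.w])
  have hj1 : j' ≫ pullback.fst π₀ g = fstZ ≫ j₀ := pullback.lift_fst _ _ _
  have hj2 : j' ≫ pullback.snd π₀ g = sndZ := pullback.lift_snd _ _ _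
  have htop : IsPullback fstZ j' j₀ (pullback.fst π₀ g) := by
    refine IsPullback.of_bot ?_ hj1.symm (IsPullback.of_hasPullback π₀ g)
    rw [hj2, fac]; exact hsq
  haveI : IsOpenImmersion j' := MorphismProperty.of_isPullback (P := @IsOpenImmersion) htop
    inferInstance
  haveI : IsAffine (pullback π₀ g) := inferInstance
  have hmem : j' z ∈ j' ''ᵁ V := ⟨z, hz, rfl⟩
  obtain ⟨_, ⟨b', rfl⟩, hzb', hb'V⟩ :=
    (TopologicalSpace.Opens.isBasis_iff_nbhd.mp (isBasis_basicOpen (pullback π₀ g))) hmem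
  obtain ⟨β, hβ⟩ := exists_sum_appTop (IsPullback.of_hasPullback π₀ g) e he b'
  have hb : j'.appTop b' = ∑ i, sndZ.appTop (β i) * fstZ.appTop (j₀.appTop (e i)) := by
    rw [hβ, map_sum]
    refine Finset.sum_congr rfl fun i _ => ?_
    rw [map_mul]
    have e1 : j'.appTop ((pullback.snd π₀ g).appTop (β i)) = sndZ.appTop (β i) := by
      rw [← hj2, Scheme.Hom.comp_appTop]; rfl
    have e2 : j'.appTop ((pullback.fst π₀ g).appTop (e i)) = fstZ.appTop (j₀.appTop (e i)) := by
      have : (j' ≫ pullback.fst π₀ g).appTop (e i) = (fstZ ≫ j₀).appTop (e i) := by rw [hj1]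
      rw [Scheme.Hom.comp_appTop, Scheme.Hom.comp_appTop] at this
      exact this
    rw [e1, e2]
  have hpre : j' ⁻¹ᵁ ((pullback π₀ g).basicOpen b') =
      Z'.basicOpen (∑ i, sndZ.appTop (β i) * fstZ.appTop (j₀.appTop (e i))) := by
    rw [Scheme.preimage_basicOpen_top, hb]
  refine ⟨β, ?_, ?_⟩
  · rw [← hpre]; exact hzb'
  · rw [← hpre]
    intro w hw
    obtain ⟨w', hw', hww⟩ := hb'V hw
    have : w' = w := j'.isOpenEmbedding.injective hww
    rw [← this]; exact hw'

end Groth.Agent.H5.UO
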