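import Mathlib
import Groth.Agent.Lib.Helper5.UO.UO1

/-!
# Universally open morphisms: the finite case via a generic linear form
-/

set_option autoImplicit false
universe u

namespace Groth.Agent.H5.UO

open AlgebraicGeometry CategoryTheory CategoryTheory.Limits MvPolynomial

section
variable {n : Type u} [Fintype n] {R S : CommRingCat.{u}} (φ : R ⟶ S) (β : n → S)

/-- The section `Σ β_i x_i` on `𝔸(n; Spec S)`. -/
noncomputable def linForm : Γ(𝔸(n; Spec S), ⊤) :=
  ∑ i, (𝔸(n; Spec S) ↘ Spec S).appTop ((Scheme.ΓSpecIso S).inv (β i)) *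
    AffineSpace.coord (Spec S) i

lemma SpecIso_inv_appTop_linForm :
    (AffineSpace.SpecIso n S).inv.appTop (linForm β) =
      (Scheme.ΓSpecIso (.of (MvPolynomial n S))).inv (∑ i, C (β i) * X i) := by
  simp only [linForm, map_sum, map_mul, AffineSpace.SpecIso_inv_appTop_coord]
  refine Finset.sum_congr rfl fun i _ => ?_
  congr 1
  rw [← CommRingCat.comp_apply, ← Scheme.Hom.comp_appTop, AffineSpace.SpecIso_inv_over,
    ← CommRingCat.comp_apply, ← Scheme.ΓSpecIso_inv_naturality]
  rfl

lemma image_basicOpen_linForm :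
    (AffineSpace.map n (Spec.map φ)).base '' ((𝔸(n; Spec S)).basicOpen (linForm β) : Set _) =
    (AffineSpace.SpecIso n R).inv.base '' (PrimeSpectrum.comap (MvPolynomial.map φ.hom) ''
      (PrimeSpectrum.basicOpen (∑ i, C (β i) * X i) : Set (PrimeSpectrum (MvPolynomial n S)))) := by
  rw [AffineSpace.map_SpecMap]
  simp only [Scheme.Hom.comp_base, TopCat.coe_comp, Set.image_comp]
  congr 2
  have h1 : (AffineSpace.SpecIso n S).hom.base '' ((𝔸(n; Spec S)).basicOpen (linForm β) : Set _) =
      (AffineSpace.SpecIso n S).inv.base ⁻¹' ((𝔸(n; Spec S)).basicOpen (linForm β) : Set _) := by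
    refine congrFun (Set.image_eq_preimage_of_inverse ?_ ?_) _
    · intro x; rw [← Scheme.Hom.comp_apply, Iso.hom_inv_id]; rfl
    · intro x; rw [← Scheme.Hom.comp_apply, Iso.inv_hom_id]; rfl
  rw [h1]
  have h2 : (AffineSpace.SpecIso n S).inv.base ⁻¹' ((𝔸(n; Spec S)).basicOpen (linForm β) : Set _) =
      (((AffineSpace.SpecIso n S).inv ⁻¹ᵁ (𝔸(n; Spec S)).basicOpen (linForm β) :
        (Spec (.of (MvPolynomial n S))).Opens) : Set _) := rfl
  rw [h2, Scheme.preimage_basicOpen_top, SpecIso_inv_appTop_linForm]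
  exact congrArg (fun U : TopologicalSpace.Opens (PrimeSpectrum (MvPolynomial n S)) =>
      (SetLike.coe U : Set (PrimeSpectrum (MvPolynomial n S))))
    (basicOpen_eq_of_affine (R := .of (MvPolynomial n S)) (∑ i, C (β i) * X i))

end

/-- Pushout elements as sums against a fixed spanning family. -/
lemma exists_fin_of_isPushout_of_span {R A B X : CommRingCat.{u}} {f : R ⟶ A} {g : R ⟶ B}
    {a : A ⟶ X} {b : B ⟶ X} (H : IsPushout f g a b) {d : ℕ} (β : Fin d → A)
    (hβ : ∀ x : A, ∃ ρ : Fin d → R, x = ∑ i, f.hom (ρ i) * β i) (x : X) :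
    ∃ c : Fin d → B, x = ∑ i, a.hom (β i) * b.hom (c i) := by
  obtain ⟨m, r, c, rfl⟩ := exists_fin_of_isPushout H x
  choose ρ hρ using fun j => hβ (r j)
  refine ⟨fun i => ∑ j, g.hom (ρ j i) * c j, ?_⟩
  have hw : ∀ t : R, a.hom (f.hom t) = b.hom (g.hom t) := fun t => by
    have := congr($(H.w).hom t)
    simpa using this
  calc ∑ j, a.hom (r j) * b.hom (c j)
      = ∑ j, ∑ i, a.hom (β i) * b.hom (g.hom (ρ j i) * c j) := by
        refine Finset.sum_congr rfl fun j _ => ?_
        conv_lhs => rw [hρ j]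
        rw [map_sum, Finset.sum_mul]
        refine Finset.sum_congr rfl fun i _ => ?_
        rw [map_mul, hw, map_mul]
        ring
    _ = ∑ i, a.hom (β i) * b.hom (∑ j, g.hom (ρ j i) * c j) := by
        rw [Finset.sum_comm]
        refine Finset.sum_congr rfl fun i _ => ?_
        rw [map_sum, Finset.mul_sum]

section rename

variable {A B : Type u} [CommRing A] [CommRing B] (φ : A →+* B) {σ τ : Type*} [Fintype σ]
  [Fintype τ] (e : σ ≃ τ) (β : τ → B)

lemma comap_map_image_basicOpen_rename :
    PrimeSpectrum.comap (MvPolynomial.map (σ := σ) φ) ''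
      (PrimeSpectrum.basicOpen (∑ i : σ, C (β (e i)) * X i) : Set (PrimeSpectrum (MvPolynomial σ B))) =
    PrimeSpectrum.comap (rename e : MvPolynomial σ A →ₐ[A] MvPolynomial τ A).toRingHom ''
      (PrimeSpectrum.comap (MvPolynomial.map (σ := τ) φ) ''
        (PrimeSpectrum.basicOpen (∑ j : τ, C (β j) * X j) : Set (PrimeSpectrum (MvPolynomial τ B)))) := by
  set ρB : MvPolynomial σ B →+* MvPolynomial τ B :=
    (rename e : MvPolynomial σ B →ₐ[B] MvPolynomial τ B).toRingHom with hρB
  set ρA : MvPolynomial σ A →+* MvPolynomial τ A :=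
    (rename e : MvPolynomial σ A →ₐ[A] MvPolynomial τ A).toRingHom with hρA
  have hh : ρB (∑ i : σ, C (β (e i)) * X i) = ∑ j : τ, C (β j) * X j := by
    have : ∀ p, ρB p = rename e p := fun p => rfl
    simp only [this, map_sum, map_mul, rename_C, rename_X]
    exact Equiv.sum_comp e (fun j => C (β j) * X j)
  have hbij : Function.Bijective ρB := (renameEquiv B e).bijective
  have hU : (PrimeSpectrum.basicOpen (∑ i : σ, C (β (e i)) * X i) : Set (PrimeSpectrum (MvPolynomial σ B))) =
      PrimeSpectrum.comap ρB '' (PrimeSpectrum.basicOpen (∑ j : τ, C (β j) * X j) : Set _) := by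
    rw [← hh]
    have : (PrimeSpectrum.basicOpen (ρB (∑ i : σ, C (β (e i)) * X i)) : Set (PrimeSpectrum (MvPolynomial τ B))) =
        PrimeSpectrum.comap ρB ⁻¹' (PrimeSpectrum.basicOpen (∑ i : σ, C (β (e i)) * X i) : Set _) := rfl
    rw [this, Set.image_preimage_eq _ (PrimeSpectrum.isHomeomorph_comap_of_bijective hbij).surjective]
  have hcomm : (MvPolynomial.map (σ := τ) φ).comp ρA = ρB.comp (MvPolynomial.map (σ := σ) φ) := by
    have hA : ∀ p, ρA p = rename e p := fun p => rfl
    have hB : ∀ p, ρB p = rename e p := fun p => rfl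
    ext x
    · simp [hA, hB]
    · simp [hA, hB]
  rw [hU, ← Set.image_comp, ← Set.image_comp, ← PrimeSpectrum.comap_comp, ← PrimeSpectrum.comap_comp,
    hcomm]

end rename

section final

variable {A B : Type u} [CommRing A] [CommRing B] [Algebra A B] {d : ℕ} (b : Fin d → B)

theorem universallyOpen_of_isOpen_image_linear (hb : Submodule.span A (Set.range b) = ⊤)
    (h : IsOpen (PrimeSpectrum.comap (MvPolynomial.map (σ := Fin d) (algebraMap A B)) ''
        (PrimeSpectrum.basicOpen (∑ i : Fin d, X i * C (b i)) :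
          Set (PrimeSpectrum (MvPolynomial (Fin d) B))))) :
    UniversallyOpen (Spec.map (CommRingCat.ofHom (algebraMap A B))) := by
  apply universallyOpen_of_forall_isAffine
  intro T P _ g g' f' hsq
  have : IsAffine P := IsAffine.of_isPullback hsq
  rw [(isBasis_basicOpen P).isOpenMap_iff]
  rintro _ ⟨_, ⟨s, rfl⟩, rfl⟩
  have Hp := isPushout_appTop_of_isPullback hsq
  let β : Fin d → Γ(Spec (.of B), ⊤) := fun i => (Scheme.ΓSpecIso (.of B)).inv (b i)
  have hβ : ∀ x : Γ(Spec (.of B), ⊤), ∃ ρ : Fin d → Γ(Spec (.of A), ⊤),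
      x = ∑ i, (Spec.map (CommRingCat.ofHom (algebraMap A B))).appTop.hom (ρ i) * β i := by
    intro x
    have hy : (Scheme.ΓSpecIso (.of B)).hom x ∈ Submodule.span A (Set.range b) := by
      rw [hb]; trivial
    obtain ⟨a, ha⟩ := (Submodule.mem_span_range_iff_exists_fun A).mp hy
    refine ⟨fun i => (Scheme.ΓSpecIso (.of A)).inv (a i), ?_⟩
    have hnat : ∀ t : A, (Spec.map (CommRingCat.ofHom (algebraMap A B))).appTop.hom
        ((Scheme.ΓSpecIso (.of A)).inv t) = (Scheme.ΓSpecIso (.of B)).inv (algebraMap A B t) := by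
      intro t
      have := congr($(Scheme.ΓSpecIso_inv_naturality (CommRingCat.ofHom (algebraMap A B))).hom t)
      exact this.symm
    have hx : x = (Scheme.ΓSpecIso (.of B)).inv ((Scheme.ΓSpecIso (.of B)).hom x) := by
      have := congr($((Scheme.ΓSpecIso (.of B)).hom_inv_id).hom x)
      exact this.symm
    rw [hx, ← ha, map_sum]
    refine Finset.sum_congr rfl fun i _ => ?_
    rw [hnat, Algebra.smul_def, map_mul]
  obtain ⟨c, hs⟩ := exists_fin_of_isPushout_of_span Hp β hβ s
  let r' : ULift.{u} (Fin d) → Γ(Spec (.of B), ⊤) := fun i => β i.down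
  let c' : ULift.{u} (Fin d) → Γ(T, ⊤) := fun i => c i.down
  have hs' : s = ∑ i, g'.appTop (r' i) * f'.appTop (c' i) := by
    rw [hs, ← Equiv.sum_comp Equiv.ulift.symm]
    rfl
  rw [hs']
  refine isOpen_image_basicOpen hsq r' c' ?_
  have key := image_basicOpen_linForm (CommRingCat.ofHom (algebraMap A B))
    (fun i : ULift.{u} (Fin d) => b i.down)
  have hlin : (∑ i, (𝔸(ULift.{u} (Fin d); Spec (.of B)) ↘ Spec (.of B)).appTop (r' i) *
      AffineSpace.coord (Spec (.of B)) i) = linForm (fun i : ULift.{u} (Fin d) => b i.down) := rfl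
  rw [hlin, key]
  apply (AffineSpace.SpecIso _ _).inv.homeomorph.isOpenMap
  have := comap_map_image_basicOpen_rename (algebraMap A B) (Equiv.ulift.{u} (α := Fin d)) b
  erw [this]
  apply (PrimeSpectrum.isHomeomorph_comap_of_bijective
    (renameEquiv A (Equiv.ulift.{u} (α := Fin d))).bijective).isOpenMap
  simpa [mul_comm] using h

attribute [local instance] MvPolynomial.algebraMvPolynomial in
theorem isOpenMap_comap_map_of_universallyOpen (σ : Type)
    (hU : UniversallyOpen (Spec.map (CommRingCat.ofHom (algebraMap A B)))) :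
    IsOpenMap (PrimeSpectrum.comap (MvPolynomial.map (σ := σ) (algebraMap A B))) := by
  have hpo := CommRingCat.isPushout_of_isPushout A B (MvPolynomial σ A) (MvPolynomial σ B)
  have hpb := isPullback_SpecMap_of_isPushout _ _ _ _ hpo
  have : UniversallyOpen (Spec.map (CommRingCat.ofHom
      (algebraMap (MvPolynomial σ A) (MvPolynomial σ B)))) :=
    MorphismProperty.of_isPullback (P := @UniversallyOpen) hpb hU
  exact (Spec.map (CommRingCat.ofHom
      (algebraMap (MvPolynomial σ A) (MvPolynomial σ B)))).isOpenMap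

theorem universallyOpen_iff_isOpen_image_linear (hb : Submodule.span A (Set.range b) = ⊤) :
    UniversallyOpen (Spec.map (CommRingCat.ofHom (algebraMap A B))) ↔
      IsOpen (PrimeSpectrum.comap (MvPolynomial.map (σ := Fin d) (algebraMap A B)) ''
        (PrimeSpectrum.basicOpen (∑ i : Fin d, X i * C (b i)) :
          Set (PrimeSpectrum (MvPolynomial (Fin d) B)))) :=
  ⟨fun hU => isOpenMap_comap_map_of_universallyOpen (Fin d) hU _ (TopologicalSpace.Opens.isOpen _),
    universallyOpen_of_isOpen_image_linear b hb⟩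

end final

end Groth.Agent.H5.UO
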