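import Mathlib

/-!
# Universally open + quasi-finite descends along limits, part B (helper5)

The openness criterion on affine space: for `h₀ : Z₀ ⟶ Y₁` and functions `ē i` on `Z₀` whose
linear combinations give bases of the topology on all affine base changes, universal openness of a
base change of `h₀` along `g` is controlled by openness of the preimage of one constructible subset
`W ⊆ 𝔸ⁿ_{Y₁}`.
-/

set_option autoImplicit false
universe u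
open CategoryTheory CategoryTheory.Limits AlgebraicGeometry MorphismProperty

namespace Groth.Agent.H5.UO

variable {Y₁ Z₀ : Scheme.{u}} (h₀ : Z₀ ⟶ Y₁) {n : Type u} [Fintype n] (ē : n → Γ(Z₀, ⊤))

/-- The universal linear combination of the `ē i` on `Z₀ ×_{Y₁} 𝔸ⁿ_{Y₁}`. -/
noncomputable def univFn : Γ(pullback h₀ (𝔸(n; Y₁) ↘ Y₁), ⊤) :=
  ∑ i, (pullback.snd h₀ (𝔸(n; Y₁) ↘ Y₁)).appTop (AffineSpace.coord Y₁ i) *
    (pullback.fst h₀ (𝔸(n; Y₁) ↘ Y₁)).appTop (ē i)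

/-- The image in `𝔸ⁿ_{Y₁}` of the nonvanishing locus of the universal linear combination. -/
noncomputable def W : Set 𝔸(n; Y₁) :=
  (pullback.snd h₀ (𝔸(n; Y₁) ↘ Y₁)) '' ((pullback h₀ (𝔸(n; Y₁) ↘ Y₁)).basicOpen (univFn h₀ ē))

/-- The openness criterion for a base change `g`. -/
def Crit {Y' : Scheme.{u}} (g : Y' ⟶ Y₁) : Prop :=
  IsOpen ((pullback.fst (𝔸(n; Y₁) ↘ Y₁) g) ⁻¹' W h₀ ē)

/-- Linear combinations of the `ē i` give a basis of the topology on every affine base change. -/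
def LinBasis : Prop :=
  ∀ ⦃Y' Z' : Scheme.{u}⦄ [IsAffine Y'] (g : Y' ⟶ Y₁) (fstZ : Z' ⟶ Z₀) (sndZ : Z' ⟶ Y'),
    IsPullback fstZ sndZ h₀ g → ∀ (V : Z'.Opens) (z : Z'), z ∈ V →
    ∃ a' : n → Γ(Y', ⊤),
      z ∈ Z'.basicOpen (∑ i, sndZ.appTop (a' i) * fstZ.appTop (ē i)) ∧
      Z'.basicOpen (∑ i, sndZ.appTop (a' i) * fstZ.appTop (ē i)) ≤ V

variable {h₀ ē}

lemma Crit.comp {Y' Y'' : Scheme.{u}} {g : Y' ⟶ Y₁} (hg : Crit h₀ ē g) (g' : Y'' ⟶ Y') :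
    Crit h₀ ē (g' ≫ g) := by
  let m : pullback (𝔸(n; Y₁) ↘ Y₁) (g' ≫ g) ⟶ pullback (𝔸(n; Y₁) ↘ Y₁) g :=
    pullback.lift (pullback.fst _ _) (pullback.snd _ _ ≫ g') (by
      rw [Category.assoc]; exact pullback.condition)
  have hm : m ≫ pullback.fst (𝔸(n; Y₁) ↘ Y₁) g = pullback.fst _ _ := pullback.lift_fst _ _ _
  have : (pullback.fst (𝔸(n; Y₁) ↘ Y₁) (g' ≫ g)) ⁻¹' W h₀ ē =
      m ⁻¹' ((pullback.fst (𝔸(n; Y₁) ↘ Y₁) g) ⁻¹' W h₀ ē) := by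
    rw [← Set.preimage_comp, ← TopCat.coe_comp, ← Scheme.Hom.comp_base, hm]
  unfold Crit
  rw [this]
  exact hg.preimage m.continuous

lemma Crit.congr {Y' : Scheme.{u}} {g g' : Y' ⟶ Y₁} (hg : Crit h₀ ē g) (e : g = g') :
    Crit h₀ ē g' := e ▸ hg

/-- Under the criterion, preimages of `W` under sections of affine space are open. -/
lemma Crit.isOpen_preimage {Y' : Scheme.{u}} {g : Y' ⟶ Y₁} (hg : Crit h₀ ē g)
    (s : Y' ⟶ 𝔸(n; Y₁)) (hs : s ≫ 𝔸(n; Y₁) ↘ Y₁ = g) : IsOpen (s ⁻¹' W h₀ ē) := by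
  let l : Y' ⟶ pullback (𝔸(n; Y₁) ↘ Y₁) g := pullback.lift s (𝟙 Y') (by rw [hs, Category.id_comp])
  have hl : l ≫ pullback.fst (𝔸(n; Y₁) ↘ Y₁) g = s := pullback.lift_fst _ _ _
  have : s ⁻¹' W h₀ ē = l ⁻¹' ((pullback.fst (𝔸(n; Y₁) ↘ Y₁) g) ⁻¹' W h₀ ē) := by
    rw [← Set.preimage_comp, ← TopCat.coe_comp, ← Scheme.Hom.comp_base, hl]
  rw [this]
  exact hg.preimage l.continuous

/-- The affine case: under the criterion the base change to an affine scheme is an open map. -/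
lemma isOpenMap_of_crit_of_isAffine (hB : LinBasis h₀ ē) {Y' Z' : Scheme.{u}} [IsAffine Y']
    {g : Y' ⟶ Y₁} (hg : Crit h₀ ē g) {fstZ : Z' ⟶ Z₀} {sndZ : Z' ⟶ Y'}
    (hsq : IsPullback fstZ sndZ h₀ g) : IsOpenMap sndZ := by
  intro Vs hVs
  rw [isOpen_iff_forall_mem_open]
  rintro _ ⟨z, hz, rfl⟩
  obtain ⟨a', hza, haV⟩ := hB g fstZ sndZ hsq ⟨Vs, hVs⟩ z hz
  let s : Y' ⟶ 𝔸(n; Y₁) := AffineSpace.homOfVector g a'
  have hs : s ≫ 𝔸(n; Y₁) ↘ Y₁ = g := AffineSpace.homOfVector_over g a'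
  let σ : Z' ⟶ pullback h₀ (𝔸(n; Y₁) ↘ Y₁) := pullback.lift fstZ (sndZ ≫ s) (by
    rw [Category.assoc, hs, hsq.w])
  have hσ1 : σ ≫ pullback.fst h₀ (𝔸(n; Y₁) ↘ Y₁) = fstZ := pullback.lift_fst _ _ _
  have hσ2 : σ ≫ pullback.snd h₀ (𝔸(n; Y₁) ↘ Y₁) = sndZ ≫ s := pullback.lift_snd _ _ _
  have hσ : IsPullback σ sndZ (pullback.snd h₀ (𝔸(n; Y₁) ↘ Y₁)) s := by
    refine IsPullback.of_right ?_ hσ2 (IsPullback.of_hasPullback h₀ (𝔸(n; Y₁) ↘ Y₁))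
    rw [hσ1, hs]; exact hsq
  have hfn : σ.appTop (univFn h₀ ē) = ∑ i, sndZ.appTop (a' i) * fstZ.appTop (ē i) := by
    unfold univFn
    rw [map_sum]
    refine Finset.sum_congr rfl fun i _ => ?_
    rw [map_mul]
    have e1 : σ.appTop ((pullback.snd h₀ (𝔸(n; Y₁) ↘ Y₁)).appTop (AffineSpace.coord Y₁ i)) =
        sndZ.appTop (a' i) := by
      have : (σ ≫ pullback.snd h₀ (𝔸(n; Y₁) ↘ Y₁)).appTop (AffineSpace.coord Y₁ i) =
          (sndZ ≫ s).appTop (AffineSpace.coord Y₁ i) := by rw [hσ2]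
      rw [Scheme.Hom.comp_appTop, Scheme.Hom.comp_appTop] at this
      refine this.trans ?_
      change sndZ.appTop (s.appTop (AffineSpace.coord Y₁ i)) = _
      rw [AffineSpace.homOfVector_appTop_coord]
    have e2 : σ.appTop ((pullback.fst h₀ (𝔸(n; Y₁) ↘ Y₁)).appTop (ē i)) = fstZ.appTop (ē i) := by
      rw [← hσ1, Scheme.Hom.comp_appTop]; rfl
    rw [e1, e2]
  have himg := Scheme.image_preimage_eq_of_isPullback hσ
    ((pullback h₀ (𝔸(n; Y₁) ↘ Y₁)).basicOpen (univFn h₀ ē) : Set _)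
  have hpre : (σ ⁻¹' ((pullback h₀ (𝔸(n; Y₁) ↘ Y₁)).basicOpen (univFn h₀ ē) : Set _)) =
      (Z'.basicOpen (∑ i, sndZ.appTop (a' i) * fstZ.appTop (ē i)) : Set Z') := by
    rw [← hfn, ← Scheme.preimage_basicOpen_top]; rfl
  rw [hpre] at himg
  refine ⟨s ⁻¹' W h₀ ē, ?_, hg.isOpen_preimage s hs, ?_⟩
  · change s ⁻¹' ((pullback.snd h₀ (𝔸(n; Y₁) ↘ Y₁)) '' _) ⊆ _
    rw [← himg]
    exact Set.image_mono haV
  · change sndZ z ∈ s ⁻¹' ((pullback.snd h₀ (𝔸(n; Y₁) ↘ Y₁)) '' _)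
    rw [← himg]
    exact ⟨z, hza, rfl⟩

/-- The general case: under the criterion the base change is an open map. -/
lemma isOpenMap_of_crit (hB : LinBasis h₀ ē) {Y' Z' : Scheme.{u}}
    {g : Y' ⟶ Y₁} (hg : Crit h₀ ē g) {fstZ : Z' ⟶ Z₀} {sndZ : Z' ⟶ Y'}
    (hsq : IsPullback fstZ sndZ h₀ g) : IsOpenMap sndZ := by
  change topologically @IsOpenMap sndZ
  rw [IsZariskiLocalAtTarget.iff_of_openCover (P := topologically @IsOpenMap) Y'.affineCover]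
  intro i
  have hpb : IsPullback (pullback.fst sndZ (Y'.affineCover.f i) ≫ fstZ)
      (pullback.snd sndZ (Y'.affineCover.f i)) h₀ (Y'.affineCover.f i ≫ g) :=
    (IsPullback.of_hasPullback sndZ (Y'.affineCover.f i)).paste_horiz hsq
  exact isOpenMap_of_crit_of_isAffine hB (hg.comp _) hpb

/-- Under the criterion the base change is universally open. -/
lemma universallyOpen_of_crit (hB : LinBasis h₀ ē) {Y' : Scheme.{u}}
    {g : Y' ⟶ Y₁} (hg : Crit h₀ ē g) : UniversallyOpen (pullback.snd h₀ g) := by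
  rw [UniversallyOpen.eq]
  intro X' Y'' i₁ i₂ f' hsq
  have hpb : IsPullback (i₁ ≫ pullback.fst h₀ g) f' h₀ (i₂ ≫ g) :=
    hsq.flip.paste_horiz (IsPullback.of_hasPullback h₀ g)
  exact isOpenMap_of_crit hB (hg.comp i₂) hpb

end Groth.Agent.H5.UO
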