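import Groth.Agent.Lib.Helper5.UO.UoA
import Groth.Agent.Lib.Helper5.UO.UoB
import Groth.Agent.Lib.Helper5.Lim.ConstructibleOpen
import Groth.Agent.Lib.Helper5.Lim.Descend
import Groth.Agent.Lib.Helper5.NApprox.ZmtB
import Mathlib

/-!
# Universally open + quasi-finite descends along limits, part C (helper5)
-/

set_option autoImplicit false
universe u
open CategoryTheory CategoryTheory.Limits AlgebraicGeometry MorphismProperty Topology

namespace Groth.Agent.H5.UO

open Groth.Agent.H5.Lim Groth.Agent.H5.NApprox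

section Crit

variable {Y₁ Z₀ : Scheme.{u}} {h₀ : Z₀ ⟶ Y₁} {n : Type u} [Fintype n] {ē : n → Γ(Z₀, ⊤)}

/-- If the base change along `g` is universally open, the criterion holds for `g`. -/
lemma crit_of_universallyOpen {Y' : Scheme.{u}} {g : Y' ⟶ Y₁}
    (hUO : UniversallyOpen (pullback.snd h₀ g)) : Crit h₀ ē g := by
  let p : 𝔸(n; Y₁) ⟶ Y₁ := 𝔸(n; Y₁) ↘ Y₁
  let q : pullback p g ⟶ 𝔸(n; Y₁) := pullback.fst p g
  have h1 : UniversallyOpen (pullback.snd h₀ (pullback.snd p g ≫ g)) :=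
    bc_of_comp (P := @UniversallyOpen) h₀ g (pullback.snd p g) hUO
  have h2 : UniversallyOpen (pullback.snd h₀ (q ≫ p)) :=
    (bc_congr (P := @UniversallyOpen) h₀ (pullback.condition (f := p) (g := g))).mpr h1
  have h3 : UniversallyOpen (pullback.snd (pullback.snd h₀ p) q) :=
    (bc_comp_iff (P := @UniversallyOpen) h₀ p q).mp h2
  have himg := Scheme.image_preimage_eq_of_isPullback
    (IsPullback.of_hasPullback (pullback.snd h₀ p) q)
    ((pullback h₀ p).basicOpen (univFn h₀ ē) : Set _)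
  change IsOpen (q ⁻¹' ((pullback.snd h₀ p) '' _))
  rw [← himg]
  refine (pullback.snd (pullback.snd h₀ p) q).isOpenMap _ ?_
  exact ((pullback h₀ p).basicOpen (univFn h₀ ē)).2.preimage
    (pullback.fst (pullback.snd h₀ p) q).continuous

/-- The set `W` is constructible. -/
lemma isConstructible_W [IsAffine Y₁] [IsAffine Z₀] [LocallyOfFinitePresentation h₀] :
    IsConstructible (W h₀ ē) := by
  haveI : IsAffine (pullback h₀ (𝔸(n; Y₁) ↘ Y₁)) := inferInstance
  refine Scheme.Hom.isConstructible_image (pullback.snd h₀ (𝔸(n; Y₁) ↘ Y₁)) ?_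
  exact IsCompact.isConstructible
    ((isAffineOpen_top (pullback h₀ (𝔸(n; Y₁) ↘ Y₁))).basicOpen (univFn h₀ ē)).isCompact
    ((pullback h₀ (𝔸(n; Y₁) ↘ Y₁)).basicOpen (univFn h₀ ē)).2

end Crit

section Descent

variable {J : Type u} [SmallCategory J] [IsCofiltered J] (E : J ⥤ Scheme.{u}) (cE : Cone E)
  (hcE : IsLimit cE)

include hcE in
/-- Openness of the preimage of a constructible subset in the base change to the limit descends to
a stage. -/
lemma exists_isOpen_preimage_bc [∀ (i j : J) (f : i ⟶ j), IsAffineHom (E.map f)] (j₁ : J)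
    {A : Scheme.{u}} (p : A ⟶ E.obj j₁) [CompactSpace A] (Ws : Set A) (hW : IsConstructible Ws)
    (h : IsOpen ((pullback.fst p (cE.π.app j₁)) ⁻¹' Ws)) :
    ∃ k : Over j₁, IsOpen ((pullback.fst p (E.map k.hom)) ⁻¹' Ws) := by
  have hEaff : ∀ {i j : J} (f : i ⟶ j), IsAffineHom (E.map f) := fun f => inferInstance
  have h3 : ∀ (j k : Over j₁) (φ : j ⟶ k), IsAffineHom ((bcDiagram E p).map φ) := fun j k φ =>
    isAffineHom_bcMap E p φ (hEaff _)
  let i₁ : Over j₁ := Over.mk (𝟙 j₁)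
  have h1 : CompactSpace ((bcDiagram E p).obj i₁) := compactSpace_bcDiagram_obj E p i₁ (hEaff _)
  let W₁ : Set ((bcDiagram E p).obj i₁) := (pullback.fst p (E.map i₁.hom)) ⁻¹' Ws
  have hW₁ : IsConstructible W₁ := (pullback.fst p (E.map i₁.hom)).isConstructible_preimage hW
  have hopen : IsOpen (((bcCone E cE p).π.app i₁) ⁻¹' W₁) := by
    have e : ((bcCone E cE p).π.app i₁) ⁻¹' W₁ = (pullback.fst p (cE.π.app j₁)) ⁻¹' Ws := by
      change (bcProj E cE p i₁) ⁻¹' ((pullback.fst p (E.map i₁.hom)) ⁻¹' Ws) = _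
      rw [← Set.preimage_comp, ← TopCat.coe_comp, ← Scheme.Hom.comp_base, bcProj_fst]
    rw [e]; exact h
  obtain ⟨k, hk⟩ := exists_isOpen_preimage (bcDiagram E p) (bcCone E cE p)
    (isLimitBcCone E cE p hcE) i₁ W₁ hW₁ hopen
  refine ⟨k.left, ?_⟩
  have e : ((bcDiagram E p).map k.hom) ⁻¹' W₁ = (pullback.fst p (E.map k.left.hom)) ⁻¹' Ws := by
    change (bcMap E p k.hom) ⁻¹' ((pullback.fst p (E.map i₁.hom)) ⁻¹' Ws) = _
    rw [← Set.preimage_comp, ← TopCat.coe_comp, ← Scheme.Hom.comp_base, bcMap_fst]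
  rw [e] at hk
  exact hk

include hcE in
/-- The affine core: universally open descends for a quasi-finite finitely presented morphism of
affine schemes. -/
theorem exists_universallyOpen_of_isAffine [∀ j, IsAffine (E.obj j)] (j₁ : J) {Z₀ : Scheme.{u}}
    [IsAffine Z₀] (h₀ : Z₀ ⟶ E.obj j₁) [LocallyOfFinitePresentation h₀] [LocallyQuasiFinite h₀]
    (hUO : UniversallyOpen (pullback.snd h₀ (cE.π.app j₁))) :
    ∃ k : Over j₁, UniversallyOpen (pullback.snd h₀ (E.map k.hom)) := by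
  have hEaff : ∀ (i j : J) (f : i ⟶ j), IsAffineHom (E.map f) := fun i j f => inferInstance
  obtain ⟨T₀, j₀, π₀, hj₀, -, hπfin, -, fac⟩ := exists_openImmersion_finite_fp h₀
  haveI : IsAffine T₀ := isAffine_of_isAffineHom π₀
  have hfin : π₀.appTop.hom.Finite :=
    ((HasAffineProperty.iff_of_isAffine (P := @IsFinite)).mp hπfin).2
  letI := π₀.appTop.hom.toAlgebra
  obtain ⟨s, hs⟩ := (show Module.Finite Γ(E.obj j₁, ⊤) Γ(T₀, ⊤) from hfin).fg_top
  let e : (↥s) → Γ(T₀, ⊤) := Subtype.val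
  have he : ∀ x : Γ(T₀, ⊤), ∃ r : (↥s) → Γ(E.obj j₁, ⊤), x = ∑ i, π₀.appTop (r i) * e i := by
    intro x
    have hx : x ∈ Submodule.span Γ(E.obj j₁, ⊤) (s : Set Γ(T₀, ⊤)) := by rw [hs]; trivial
    obtain ⟨r, hr⟩ := Submodule.mem_span_finset'.mp hx
    refine ⟨r, ?_⟩
    rw [← hr]
    refine Finset.sum_congr rfl fun i _ => ?_
    rw [Algebra.smul_def]; rfl
  let ē : (↥s) → Γ(Z₀, ⊤) := fun i => j₀.appTop (e i)
  have hB : LinBasis h₀ ē := fun Y' Z' _ g fstZ sndZ hsq V z hz =>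
    exists_basicOpen_sum h₀ j₀ π₀ fac e he g fstZ sndZ hsq V z hz
  have hcrit : Crit h₀ ē (cE.π.app j₁) := crit_of_universallyOpen hUO
  have hW : IsConstructible (W h₀ ē) := isConstructible_W
  obtain ⟨k, hk⟩ := exists_isOpen_preimage_bc E cE hcE j₁ (𝔸(↥s; E.obj j₁) ↘ E.obj j₁) (W h₀ ē)
    hW hcrit
  exact ⟨k, universallyOpen_of_crit hB hk⟩

end Descent

/-- Universal openness descends along cofiltered limits of affine schemes, for quasi-compact
locally quasi-finite morphisms locally of finite presentation. -/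
theorem affineSystemDescent_universallyOpen :
    AffineSystemDescent.{u} @UniversallyOpen
      (@LocallyOfFinitePresentation ⊓ @QuasiCompact ⊓ @LocallyQuasiFinite) := by
  classical
  intro J _ _ E cE hcE _ j₁ Z₀ h₀ hΦ hP
  haveI : LocallyOfFinitePresentation h₀ := hΦ.1.1
  haveI : QuasiCompact h₀ := hΦ.1.2
  haveI : LocallyQuasiFinite h₀ := hΦ.2
  haveI : CompactSpace Z₀ := QuasiCompact.compactSpace_of_compactSpace h₀
  let 𝒰 := Z₀.affineCover.finiteSubcover
  have h𝒰 : ∀ u, IsAffine (𝒰.X u) := fun u => by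
    dsimp [𝒰]; infer_instance
  have key : ∀ u, ∃ k : Over j₁, UniversallyOpen (pullback.snd (𝒰.f u ≫ h₀) (E.map k.hom)) := by
    intro u
    haveI := h𝒰 u
    exact exists_universallyOpen_of_isAffine E cE hcE j₁ (𝒰.f u ≫ h₀)
      ((bc_source_iff (P := @UniversallyOpen) h₀ (cE.π.app j₁) 𝒰).mp hP u)
  choose ku hku using key
  obtain ⟨k, hk⟩ := IsCofiltered.inf_objs_exists (Finset.univ.image ku)
  refine ⟨k.left, k.hom, ?_⟩
  rw [bc_source_iff (P := @UniversallyOpen) h₀ (E.map k.hom) 𝒰]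
  intro u
  let ψ : k ⟶ ku u := (hk (Finset.mem_image_of_mem ku (Finset.mem_univ u))).some
  have e : E.map k.hom = E.map ψ.left ≫ E.map (ku u).hom := by
    rw [← E.map_comp, CategoryTheory.Over.w]
  rw [bc_congr (P := @UniversallyOpen) (𝒰.f u ≫ h₀) e]
  exact bc_of_comp (P := @UniversallyOpen) _ _ _ (hku u)

end Groth.Agent.H5.UO
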