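import Groth.Agent.Lib.Helper5.UO.UoC
import Groth.Agent.Lib.Helper5.Lim.DescendQuasiFinite
import Groth.Agent.Lib.Helper5.Lim.DescendConverse
import Mathlib

/-!
# Universally open + quasi-finite descends along limits, part D (helper5)
-/

set_option autoImplicit false
universe u
open CategoryTheory CategoryTheory.Limits AlgebraicGeometry MorphismProperty Topology

namespace Groth.Agent.H5.UO

open Groth.Agent.H5.Lim

theorem exists_stage_lqf_universallyOpen {I : Type u} [SmallCategory I] [IsCofiltered I]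
    (D : I ⥤ Scheme.{u}) (c : Limits.Cone D) (hc : Limits.IsLimit c)
    [∀ (i j : I) (φ : i ⟶ j), IsAffineHom (D.map φ)] (i₀ : I) [CompactSpace (D.obj i₀)]
    [QuasiSeparatedSpace (D.obj i₀)]
    {X₀ Y₀ : Scheme.{u}} (f₀ : X₀ ⟶ Y₀) (g₀ : Y₀ ⟶ D.obj i₀) [CompactSpace X₀]
    [QuasiSeparatedSpace X₀]
    [CompactSpace Y₀] [QuasiSeparatedSpace Y₀] [LocallyOfFinitePresentation f₀]
    {X Y : Scheme.{u}} (f : X ⟶ Y) (g : Y ⟶ c.pt) (qY : Y ⟶ Y₀) (qX : X ⟶ X₀)
    (hY : IsPullback qY g g₀ (c.π.app i₀)) (hX : IsPullback qX f f₀ qY)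
    [LocallyQuasiFinite f] [UniversallyOpen f] :
    ∃ (i : I) (φ : i ⟶ i₀) (Xi Yi : Scheme.{u}) (fi : Xi ⟶ Yi) (gi : Yi ⟶ D.obj i) (pY : Yi ⟶ Y₀)
      (pX : Xi ⟶ X₀),
      IsPullback pY gi g₀ (D.map φ) ∧ IsPullback pX fi f₀ pY ∧ LocallyQuasiFinite fi ∧
        LocallyOfFiniteType fi ∧ UniversallyOpen fi := by
  have hDaff : ∀ {i j : I} (f : i ⟶ j), IsAffineHom (D.map f) := fun f => inferInstance
  haveI hqc : QuasiCompact f₀ := inferInstance
  haveI hqs : QuasiSeparated f₀ := inferInstance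
  have hΦ₁ : (@LocallyOfFiniteType ⊓ (@QuasiCompact ⊓ @QuasiSeparated) :
      MorphismProperty Scheme.{u}) f₀ :=
    ⟨inferInstance, hqc, hqs⟩
  obtain ⟨k₁, hk₁⟩ := exists_descend_core D c hc affineSystemDescent_locallyQuasiFinite i₀ f₀ g₀
    hΦ₁ (descend_in D c f₀ g₀ hY hX ‹LocallyQuasiFinite f›)
  -- the data at stage `k₁`
  have hY₁ : IsPullback (pullback.fst g₀ (D.map k₁.hom)) (pullback.snd g₀ (D.map k₁.hom)) g₀
      (D.map k₁.hom) := IsPullback.of_hasPullback _ _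
  have hX₁ : IsPullback (pullback.fst f₀ (pullback.fst g₀ (D.map k₁.hom)))
      (pullback.snd f₀ (pullback.fst g₀ (D.map k₁.hom))) f₀ (pullback.fst g₀ (D.map k₁.hom)) :=
    IsPullback.of_hasPullback _ _
  obtain ⟨s, r, hsq, hr1, hr2, -⟩ := exists_isPullback_of_stage D c hY hX hY₁ hX₁
  have hY' : IsPullback r g (pullback.snd g₀ (D.map k₁.hom)) (c.π.app k₁.left) := by
    refine IsPullback.of_right ?_ hr2 hY₁
    rw [hr1, c.w]; exact hY
  haveI : CompactSpace ↥(pullback g₀ (D.map k₁.hom) : Scheme.{u}) :=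
    compactSpace_bcDiagram_obj D g₀ k₁ (hDaff _)
  have hΦ' : (@LocallyOfFinitePresentation ⊓ @QuasiCompact ⊓ @LocallyQuasiFinite :
      MorphismProperty Scheme.{u}) (pullback.snd f₀ (pullback.fst g₀ (D.map k₁.hom))) :=
    ⟨⟨inferInstance, inferInstance⟩, hk₁⟩
  obtain ⟨i, φ, Xi, Yi, fi, gi, pY, pX, hYi, hXi, hUO⟩ := exists_descend D c hc
    affineSystemDescent_universallyOpen k₁.left
    (pullback.snd f₀ (pullback.fst g₀ (D.map k₁.hom))) (pullback.snd g₀ (D.map k₁.hom)) hΦ'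
    f g r s hY' hsq ‹UniversallyOpen f›
  have hX2 : IsPullback (pX ≫ pullback.fst f₀ (pullback.fst g₀ (D.map k₁.hom))) fi f₀
      (pY ≫ pullback.fst g₀ (D.map k₁.hom)) := hXi.paste_horiz hX₁
  refine ⟨i, φ ≫ k₁.hom, Xi, Yi, fi, gi, pY ≫ pullback.fst g₀ (D.map k₁.hom),
    pX ≫ pullback.fst f₀ (pullback.fst g₀ (D.map k₁.hom)), ?_, hX2, ?_, ?_, hUO⟩
  · rw [D.map_comp]; exact hYi.paste_horiz hY₁
  · exact MorphismProperty.of_isPullback (P := @LocallyQuasiFinite) hXi hk₁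
  · haveI : LocallyOfFinitePresentation fi :=
      MorphismProperty.of_isPullback (P := @LocallyOfFinitePresentation) hX2 inferInstance
    infer_instance

end Groth.Agent.H5.UO
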